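import Cfsg.Agent.Helper6.SchG23.Tab

set_option autoImplicit false
set_option linter.all false
set_option maxRecDepth 1000000
set_option maxHeartbeats 0

namespace Cfsg.Agent.Helper6.SchG23

theorem okR15 : OKR (15 * 1100) 1100 := by decide +kernel
theorem okR16 : OKR (16 * 1100) 1100 := by decide +kernel
theorem okR17 : OKR (17 * 1100) 1100 := by decide +kernel

end Cfsg.Agent.Helper6.SchG23
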