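import Cfsg.Agent.Helper6.SchG23.Tab

set_option autoImplicit false
set_option linter.all false
set_option maxRecDepth 1000000
set_option maxHeartbeats 0

namespace Cfsg.Agent.Helper6.SchG23

theorem okT0 : OKT (0 * 20000) 20000 := by decide +kernel
theorem okT1 : OKT (1 * 20000) 20000 := by decide +kernel
theorem okT2 : OKT (2 * 20000) 20000 := by decide +kernel
theorem okT3 : OKT (3 * 20000) 20000 := by decide +kernel
theorem okT4 : OKT (4 * 20000) 20000 := by decide +kernel
theorem okT5 : OKT (5 * 20000) 20000 := by decide +kernel
theorem okT6 : OKT (6 * 20000) 20000 := by decide +kernel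
theorem okT7 : OKT (7 * 20000) 20000 := by decide +kernel
theorem okT8 : OKT (8 * 20000) 20000 := by decide +kernel
theorem okT9 : OKT (9 * 20000) 20000 := by decide +kernel
theorem okT10 : OKT (10 * 20000) 20000 := by decide +kernel
theorem okT11 : OKT (11 * 20000) 20000 := by decide +kernel
theorem okT12 : OKT (12 * 20000) 20000 := by decide +kernel
theorem okT13 : OKT (13 * 20000) 20000 := by decide +kernel
theorem okT14 : OKT (14 * 20000) 20000 := by decide +kernel
theorem okT15 : OKT (15 * 20000) 20000 := by decide +kernel
theorem okT16 : OKT (16 * 20000) 20000 := by decide +kernel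
theorem okF0 : OKF [2, 2] 1359 1606938235820955719743874941752533932458440983594295156080640 := by decide +kernel
theorem okF1 : OKF [2, 2] 1551 1606889195960725008722643997803684883789801994659188900429824 := by decide +kernel
theorem okF2 : OKF [2, 2] 3862 1606938235829724728522512928080623178174937605202589566173184 := by decide +kernel
theorem okF3 : OKF [2, 2] 4858 1606962755749609573965608675304958433885064600729894621609984 := by decide +kernel
theorem okF4 : OKF [2, 2] 7614 1606889195972417020079045377899009583486338073966010330841088 := by decide +kernel
theorem okF5 : OKF [2, 2] 11127 1606913715889378863989725162537227393219297037969964348276736 := by decide +kernel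
theorem okF6 : OKF [2, 2] 39861 1606791116289954637819594106826992608723185536517558310600704 := by decide +kernel

end Cfsg.Agent.Helper6.SchG23
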