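import Mathlib

import Cfsg.Agent.Helper6.SchG23.Facts
import Cfsg.Agent.Helper19.Schur.Cover

/-! The Schur multiplier of `G₂(3)` is cyclic of order three: the instance of helper19's labelled
Todd–Coxeter pipeline for the presentation
`⟨x, y | x¹³, y², (x⁻¹y)³, (x⁻³yx³y)⁴, (x⁻⁶yx⁴y)³, (x⁻⁵yx⁻⁴yx²yx⁻³y)², (x⁻⁵yx⁻³yx²yx⁻⁴y)², (x⁻⁵yx⁵y)³⟩`
(helper6). -/

set_option autoImplicit false
set_option linter.all false
set_option maxRecDepth 100000

namespace Cfsg.Agent.Helper6.SchG23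

open Cfsg Cfsg.Agent.Helper19.TCS Cfsg.Agent.Helper19.TCL
  Cfsg.Agent.Helper19.Schur

universe u

/-! ### The upper bound -/

theorem invF_eq : ∀ l, l < 4 → invF l = inv4 l := by
  intro l hl
  interval_cases l <;> rfl

theorem prodw_replicate {Δ : Type*} [Group Δ] (gc : ℕ → Δ) (l n : ℕ) :
    prodw gc (List.replicate n l) = gc l ^ n := by
  induction n with
  | zero => simp [prodw]
  | succ n ih => rw [List.replicate_succ, prodw, ih, pow_succ]

theorem hcen_of_trivial {Δ : Type u} [Group Δ] (a b : Δ)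
    (h : ∀ w ∈ rels, prodw (gc2 a b) w = 1) :
    ∀ ρ g, Commute (prodw (gc2 a b) (rels.getD ρ [])) g := by
  intro ρ g
  have : prodw (gc2 a b) (rels.getD ρ []) = 1 :=
    forall_getD_of_forall_mem (fun w => prodw (gc2 a b) w = 1) rels [] h rfl ρ
  rw [this]
  exact Commute.one_left g

theorem closedL' {Δ : Type u} [Group Δ] (a b : Δ)
    (hcen : ∀ ρ g, Commute (prodw (gc2 a b) (rels.getD ρ [])) g) :
    SemL 326592 4 1048576 9 8388608 65536 32768 803469117910477859871937470876262014469063350522338586165248 invF 72 rotsF subsF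
        (gc2 a b) (iotaC (gfam a b rels 9) (gfam_comm a b rels 9 hcen)) (genC 9) ∧
      ∀ i l, i < 326592 → l < 4 →
        FactL (gc2 a b) (iotaC (gfam a b rels 9) (gfam_comm a b rels 9 hcen)) (genC 9)
          326592 524288 70368744177664 9 8388608 65536 32768 ent parF pletF i l :=
  closedL (gc2 a b) _ (genC 9) (gc2_invF a b invF invF_eq)
    (bridge_rels a b rels 9 (by decide) hcen) (bridge_subs a b rels 9 (by norm_num) hcen)

theorem hT1 (Δ : Type u) [Group Δ] (a b : Δ)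
    (hgen : Subgroup.closure {a, b} = (⊤ : Subgroup Δ))
    (hrel : ∀ w ∈ rels, prodw (gc2 a b) w = 1) : Finite Δ ∧ Nat.card Δ ≤ 4245696 := by
  have hcen := hcen_of_trivial a b hrel
  obtain ⟨S, hcl⟩ := closedL' a b hcen
  have ha : a ^ 13 = 1 := by
    have h1 := hrel (List.replicate 13 0) (by decide)
    rw [prodw_replicate] at h1
    exact h1
  have hι : ∀ c, iotaC (gfam a b rels 9) (gfam_comm a b rels 9 hcen) c ∈ Subgroup.zpowers a := by
    intro c
    apply iotaC_mem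
    intro i
    unfold gfam
    split_ifs with h
    · exact Subgroup.mem_zpowers a
    · have : prodw (gc2 a b) (rels.getD ((i : ℕ) - 1) []) = 1 :=
        forall_getD_of_forall_mem (fun w => prodw (gc2 a b) w = 1) rels [] hrel rfl _
      rw [this]
      exact one_mem _
  have := card_le_of_factL a b hgen _ (genC 9) S hcl 13 (by norm_num) ha hι
  exact this

/-- the relations among the relator symbols found by the seven faces. -/
def lam : Fin 7 → Fin 9 → ℤ :=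
  ![![0, 0, -8, 0, 2, 0, 0, 0, 0],
    ![0, 2, 15, 0, -4, 1, 2, -1, -2],
    ![0, 0, 0, 0, 0, 0, -3, 3, 0],
    ![0, 0, -3, 0, 0, 0, 0, 0, 1],
    ![0, 0, 2, 4, 1, -2, -3, 3, -2],
    ![0, 8, 3, 6, -7, 1, 5, -1, -1],
    ![0, 8, -20, -26, 7, 7, -7, 14, -6]]

theorem hT2 (Δ : Type u) [Group Δ] (a b : Δ)
    (hcen : ∀ ρ g, Commute (prodw (gc2 a b) (rels.getD ρ [])) g) (j : Fin 7) :
    Psi (gfam a b rels 9) (gfam_comm a b rels 9 hcen) (lam j) = 1 := by
  have hinv := gc2_invF a b invF invF_eq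
  have hrels := bridge_rels a b rels 9 (by decide) hcen
  have hsubs := bridge_subs a b rels 9 (by norm_num) hcen
  fin_cases j
  · exact psi_eq_one_of_face _ _ 32768 2 [65536, 65536, 65529, 65536, 65538, 65536, 65536, 65536, 65536] rfl
      ⟨2, by norm_num⟩ _ (face0 (gc2 a b) _ (genC 9) hinv hrels hsubs) (by decide)
  · exact psi_eq_one_of_face _ _ 32768 2 [65536, 65538, 65552, 65536, 65532, 65537, 65538, 65535, 65534] rfl
      ⟨2, by norm_num⟩ _ (face1 (gc2 a b) _ (genC 9) hinv hrels hsubs) (by decide)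
  · exact psi_eq_one_of_face _ _ 32768 2 [65536, 65536, 65537, 65536, 65536, 65536, 65533, 65539, 65536] rfl
      ⟨2, by norm_num⟩ _ (face2 (gc2 a b) _ (genC 9) hinv hrels hsubs) (by decide)
  · exact psi_eq_one_of_face _ _ 32768 2 [65536, 65536, 65534, 65536, 65536, 65536, 65536, 65536, 65537] rfl
      ⟨2, by norm_num⟩ _ (face3 (gc2 a b) _ (genC 9) hinv hrels hsubs) (by decide)
  · exact psi_eq_one_of_face _ _ 32768 2 [65536, 65536, 65539, 65540, 65537, 65534, 65533, 65539, 65534] rfl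
      ⟨2, by norm_num⟩ _ (face4 (gc2 a b) _ (genC 9) hinv hrels hsubs) (by decide)
  · exact psi_eq_one_of_face _ _ 32768 2 [65536, 65544, 65540, 65542, 65529, 65537, 65541, 65535, 65535] rfl
      ⟨2, by norm_num⟩ _ (face5 (gc2 a b) _ (genC 9) hinv hrels hsubs) (by decide)
  · exact psi_eq_one_of_face _ _ 32768 2 [65536, 65544, 65517, 65510, 65543, 65543, 65529, 65550, 65530] rfl
      ⟨2, by norm_num⟩ _ (face6 (gc2 a b) _ (genC 9) hinv hrels hsubs) (by decide)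

/-! ### The lattice data -/

def e1 : Fin 9 → ℤ := ![0, 13, 0, -3, 0, -6, -20, -20, 0]
def e2 : Fin 9 → ℤ := ![0, 0, 2, 3, 8, 6, 8, 8, 6]
def c1 : Fin 9 → ℤ := ![0, 1, 30, -36, 0, 0, 6, 0, 0]
def c2 : Fin 9 → ℤ := ![0, 3, 89, -107, 0, 0, 18, 0, 0]
def g0 : Fin 9 → ℤ := ![0, -2, -11, 18, 0, 0, -4, 0, 0]

theorem he1 : ∀ c : Fin 9, e1 c = if (c : ℕ) = 0 then 0 else es0 (rels.getD ((c : ℕ) - 1) []) := by
  decide

theorem he2 : ∀ c : Fin 9, e2 c = if (c : ℕ) = 0 then 0 else es1 (rels.getD ((c : ℕ) - 1) []) := by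
  decide

theorem sum_nine (f : Fin 9 → ℤ) : ∑ c, f c = f 0 + f 1 + f 2 + f 3 + f 4 + f 5 + f 6 + f 7 + f 8 := by
  rw [Fin.sum_univ_castSucc, Fin.sum_univ_eight]
  rfl

theorem Efun_eq (e v : Fin 9 → ℤ) : Efun e v =
    v 0 * e 0 + v 1 * e 1 + v 2 * e 2 + v 3 * e 3 + v 4 * e 4 + v 5 * e 5 + v 6 * e 6 + v 7 * e 7 +
      v 8 * e 8 := by
  unfold Efun
  rw [sum_nine]

theorem hc1 : (∀ c : Fin 9, (c : ℕ) = 0 → c1 c = 0) ∧ Efun e1 c1 = 1 ∧ Efun e2 c1 = 0 := by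
  refine ⟨by decide, ?_, ?_⟩ <;> rw [Efun_eq] <;> decide

theorem hc2 : (∀ c : Fin 9, (c : ℕ) = 0 → c2 c = 0) ∧ Efun e1 c2 = 0 ∧ Efun e2 c2 = 1 := by
  refine ⟨by decide, ?_, ?_⟩ <;> rw [Efun_eq] <;> decide

theorem hg0 : ∀ c : Fin 9, (c : ℕ) = 0 → g0 c = 0 := by decide

theorem hL1 : ∀ v : Fin 9 → ℤ, (∀ c : Fin 9, (c : ℕ) = 0 → v c = 0) → Efun e1 v = 0 →
    Efun e2 v = 0 → ∃ (cf : Fin 7 → ℤ) (t : ℤ), v = ∑ j, cf j • lam j + t • g0 := by
  intro v h0 h1 h2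
  have h0' : v 0 = 0 := h0 0 rfl
  rw [Efun_eq] at h1 h2
  simp only [e1, e2, Matrix.cons_val_zero, Matrix.cons_val_one, Matrix.cons_val] at h1 h2
  refine ⟨![(-8604) * v 1 + (7586) * v 2 + (13103) * v 3 + (20134) * v 4 + (-81004) * v 5 + (42404) * v 6 + (-25666) * v 7 + (22758) * v 8,
      (-9352) * v 1 + (8238) * v 2 + (14231) * v 3 + (21864) * v 4 + (-87962) * v 5 + (46061) * v 6 + (-27859) * v 7 + (24714) * v 8,
      (1328) * v 1 + (-1174) * v 2 + (-2027) * v 3 + (-3117) * v 4 + (12526) * v 5 + (-6557) * v 6 + (3970) * v 7 + (-3522) * v 8,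
      (-23601) * v 1 + (20800) * v 2 + (35929) * v 3 + (55204) * v 4 + (-222101) * v 5 + (116281) * v 6 + (-70359) * v 7 + (62401) * v 8,
      (-3564) * v 1 + (3144) * v 2 + (5430) * v 3 + (8343) * v 4 + (-33587) * v 5 + (17571) * v 6 + (-10649) * v 7 + (9432) * v 8,
      (2351) * v 1 + (-2072) * v 2 + (-3579) * v 3 + (-5498) * v 4 + (22137) * v 5 + (-11583) * v 6 + (7017) * v 7 + (-6216) * v 8,
      (-20) * v 1 + (18) * v 2 + (31) * v 3 + (48) * v 4 + (-190) * v 5 + (100) * v 6 + (-60) * v 7 + (54) * v 8],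
    (-22) * v 1 + (17) * v 2 + (30) * v 3 + (44) * v 4 + (-192) * v 5 + (99) * v 6 + (-61) * v 7 + (51) * v 8, ?_⟩
  funext c
  rw [Fin.sum_univ_seven]
  fin_cases c <;>
    simp [lam, g0] <;> omega

theorem hL2 : ∃ cf : Fin 7 → ℤ, ((3 : ℕ) : ℤ) • g0 = ∑ j, cf j • lam j := by
  refine ⟨![-1266, -1375, 196, -3472, -525, 346, -3], ?_⟩
  funext c
  rw [Fin.sum_univ_seven]
  fin_cases c <;> simp [lam, g0]

end Cfsg.Agent.Helper6.SchG23
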