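import Cfsg.Agent.Helper19.TCR.ModelDefs

set_option autoImplicit false
set_option linter.all false
set_option maxRecDepth 1000000
set_option maxHeartbeats 0

namespace Cfsg.Agent.Helper6.SchG23

open Cfsg.Agent.Helper19.TCS Cfsg.Agent.Helper19.TCM

noncomputable def colM0 : Tr Nat := (.nd (.nd (.lf (nat_lit 0x6206102705b05c02505802305604305405202004f01f02104a01d04601b04404203e03f01803b01603903701503501401302f01102d02b02202800e02602400d00c00b01e01c01a01901700800701201000f00500900a003006001004002000)) (.lf (nat_lit 0x17d0dd0dc1b11af10c0da0d91ab0d71a91a81a70d51a30d31a199a19f19e0d00cf1980cd19611d0cb0c90c80c619118f8f518d0c40c30c218a1881861851840bf0be0bd17e17c17a1791770ba1731740b81700b616e12d16916a0b355a0b1165)) (.lf (nat_lit 0x2092911cb20e9cf1c41c1290a5f28f1bf28e1bd28c1bb26da191b81f964e1b36791b062d60b2871ae1ad1ac2826322461a61a427f27e27a27b1a01c95aa19d1e627819927619719b275a1619563c1931cd1921902731e727127026f18b18c26b)) (.lf (nat_lit 0x0))) (.nd (.lf (nat_lit 0x530510b90b70500b504e0b40b204d04c0ad47e0aa0a90a70480470a30a20a104504909e09c04104009909707b09546503d03c08f08d08c03a08608703808303608003484b07d03307a07803103007407207102e03206c02c06802a067029064))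 (.lf (nat_lit 0x1131fb1119be1fa1621f710e57b1f410d1f11f010a1eb1ec1081e81061051e51e31e21031df1011dd1db0fd0fc0fb1d81d71d60f90f815e0f61d158e1ce0f11cc0ef1ca9941c80ed1c51c30e81c00e657f9670e50e40e20e11ba1825710de1b7)) (.lf (nat_lit 0x2b762521b2bd2bb68a25565d2132b9a3820a24ca67231a1423964f202203a86233a416631f86112af1f26352ac1ef2aa5fd1ee2122a72a62a51ea1e968029f9f61e429d64b1e1a541de23429a21d1d9299a5a1d523da771d42972951d21d320c)) (.lf (nat_lit 0x0))) (.nd (.lf (nat_lit 0x8208111211010f07f10b07c1091070d11040771021000760fe0750fa0730f70b00f40700f20f006f06e0ec0ea0e90e706a0e306b0e00df0660db0638930d80d60600d405f05e05d0790ce0cc0a486905a0590c70c546d0570c00c10550bb0bc)) (.lf (nat_lit 0x14b14914714614523022f14198913f9b213e13d13c22a2289dc13913813a2211365c21b42206011321a221c13021a12e21821721512b58712a12c1ed12820f1251d012412215612020720620520411b9da1192001ff1261bc1fe9351155e0114)) (.lf (nat_lit 0x27d27c2e4ae2aa1698a8127427226e26cadc2692e12662e06a22642dd2de261a9b25ea9e2a968d6932da2592582572d62d42536c5ab86832d26512b22d02432ce2cd2422926ba2cb2ca248688ac46b02b322e22b2c6a892242232222c121f21e))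 (.lf (nat_lit 0x0))) (.nd (.lf (nat_lit 0x1481645440ae0af15f0ac0ab15b1594ca1570a81160a61551530a515114f91e0ee11c0a014c14a09f0f30ff09d12314314214009a09b13b09809613713313409413112f09209109008e1291270d208b08a0890884eb12111f08508411a118117)) (.lf (nat_lit 0x5b626a1831812681b59f56082651781769c7a0d226a452622601729b925c25b16f98025616d16b5c663a19c25225016821016624d1a596c16316124a57524924715d24415c5fc1582409f323e23f154a2c15262915023b62714e96014d236237)) (.lf (nat_lit 0x2efaed2df2e96f12d52f32d12cc2f22c22c32ec2bf2be2e72eb2b52c86d32ae2f06db2a82a42d92ee2a32a0ae82d72d8ac7ab62cf2e62962e52bc6ab2b169428b2c0ab42ea6c92852ad284ae3a9c)) (.lf (nat_lit 0x0))))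

end Cfsg.Agent.Helper6.SchG23
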