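import Cfsg.Agent.Helper19.TCR.ModelDefs

set_option autoImplicit false
set_option linter.all false
set_option maxRecDepth 1000000
set_option maxHeartbeats 0

namespace Cfsg.Agent.Helper6.SchG23

open Cfsg.Agent.Helper19.TCS Cfsg.Agent.Helper19.TCM

noncomputable def colM1 : Tr Nat := (.nd (.nd (.lf (nat_lit 0x2802905f05e02605a02405702305502105305004704d04c01e04801c04501b04304101903d01703a01603801a03003303101202e01102c01000f02700e02502202001f00b01d00a00901801501401300600700d00c004008002005001003000)) (.lf (nat_lit 0x1b61b41b31b20db1ac1ae1ad0d81aa5830d60d71a50d41a20d31a010619919c19a0ce1970cd1861951930e11920c61900c54eb1260e918b0c21890c10c00f218218017f0bd17d0bc0bb17817513a0b91720b716f0b616d16c0b41680b21660b1)) (.lf (nat_lit 0x1cc1cd247a0c1c69e426f6751c01c1a6324e26aa212711ba1b9289a285ca2881b19c81b09c51f2a7e2852842831ab1a728128024c1a327d1a162f19f19e60e19d67027725da661df19623c5f3240a2727423f9f818f18e18d18c26c26d9a6188)) (.lf (nat_lit 0x0))) (.nd (.lf (nat_lit 0xba8730510b806204f08f04e0b30b00ae04b0ac04a0490a80a50a488604609d09f48b04404209a86004009803f03e09409209109003b03c08a08903908503708203507f03407e07b03207907607545202f06906f06e02d06a02b03602a066065))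 (.lf (nat_lit 0x94a11213f11197711010f1f610e1f59d710b10c1ee9421091ea1071e75db1e61041051e05491de1000fe1da17a1d95c30fa15b1d41d20f79020f61d00f41910f01cb0ef1c90ed1c70ec1c41c20e71bf0e61be0ff1bd1bc1bb8fd0e00df1b80de)) (.lf (nat_lit 0x21d21c2bf2be21a21ba2a21464621220f2b82072b72052042032b62302b52001fe2b31fb6722b11f72aea681f02ab1ef6372a9a781ec1eb6492a32a22a11e827965029e1e2a991e1a6ea2c1dd273a521d81d628e1d52205f11d32962936691cf)) (.lf (nat_lit 0x0))) (.nd (.lf (nat_lit 0x11511411308008110d07d10a07c10807a0781030771010aa0fb0fc0740f90f80720710f30700f10ee08c06d06c06b0e80e50680e20670dc0dd0640da0630d90610d54970d20d10d005d0cf05c05b0cb0ca0c90c80580590c40c30560bf0be054)) (.lf (nat_lit 0x23557c2331852311445ed22e1409ff1fa1a822b5b513c22913b225224223137a1713513413321f1dc21e1311a412f21912d12c2161e321052e21312921112720d55220b20912120812095811e20120211a5b711999b1181171161fd1431fc5e9)) (.lf (nat_lit 0x2e62e527c2cd27ba9127669c27f6d22e26c728a2982cba8b2652df2c3262acc2602a72dc25c25b25a2db2d8aaf6bb2d72566a82536c06aa24d24aaba2442cf243acaaa529223e238236234aa62322c9a7a686a8d22666b2c42c2a9b2226b9a57))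 (.lf (nat_lit 0x0))) (.nd (.lf (nat_lit 0xe30af1631621610ad15d15c0ab15a51f0a90e40a71560a61540ea1500a38c70a20a114d0a014b14814709e14614509c09b14113e13d0991391380961360951320931300cc0b512b12a08e12808d1258f512412308812208711d11c11b083084)) (.lf (nat_lit 0x187184a5f9d117e17b22d2671796555f91765ce26417417326125e19817017125925816e20621516b25416a16925198116724f1655af16458a24b16015f15e24824524124215919463b15720a15523d1532181515f49e514f23a14e9a923914c)) (.lf (nat_lit 0x2ed2eaaef2de2f32d96f22e72e32c62f06d62e42d02ce2bd6c16bc2b22b02f12ac2ad6b4add2a42da2d42d52a02ee29fae029a2ec2972d12952942eb29028fac52e16d3287a9d68c2e82e92822c8)) (.lf (nat_lit 0x0))))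

end Cfsg.Agent.Helper6.SchG23
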