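import Cfsg.Agent.Helper19.TCR.ModelDefs

set_option autoImplicit false
set_option linter.all false
set_option maxRecDepth 1000000
set_option maxHeartbeats 0

namespace Cfsg.Agent.Helper6.SchG23

open Cfsg.Agent.Helper19.TCS Cfsg.Agent.Helper19.TCM

noncomputable def colM3 : Tr Nat := (.nd (.nd (.lf (nat_lit 0x6302706002605d05b05902405502205302005101f04e01e04b04904704201d01a01904003e03c01703801503601403403203002b01301002a02900f02500d02302101c00c00a01b01800801601200601100500e00400b009007002003000001)) (.lf (nat_lit 0xdd1b51b10db1b00da10b9801ac1a90d65820d51a61a40d41a00d20d10d019d19b19911d0cf0cc1511940e218f0c80c518e0c412818c1880c30c11870f20bf18318117c0be0bc17b1780ba1760b91391731710b70d90b50b416b1691670b20e3)) (.lf (nat_lit 0x2921cb2811c81c79e62901c0a601bfa641bd28d1bb28ba211b828a1b41b364d5ca60b1b21af1ae2862502821ab6302471a727f1a324b1a127c27a27960d19e67019c276198a671961de195a17193a291921cc9f62741902721c418b26e18a26c)) (.lf (nat_lit 0x0))) (.nd (.lf (nat_lit 0xbb0520b80500b609104f0b304d0b10af04c04a0ab0a80480a60a30468850450a004448a09d09b09704103f09609403d09308f03b08e03a08b03908808608403708103507e03307c07903107707402f07302e07002d06d06b06904302c064028))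 (.lf (nat_lit 0x17f1fc1fa1131101f91f810f1f510d1f31f210a1ef1091ed1eb1e919f1e51041e41031e11021df1471dc0fe1a81d80fa5c20f91d51d315b1480f80f41cf1851cd0f01c90ee1250ec1c60e91c31c10e71be0e515a1651911ba0e08fc1b90df1b6)) (.lf (nat_lit 0x21e2c02bd21a2bc21921829e2ba2136aa20724a2056afa152b6202a83200a872b41fb2b26111f72b06351f12ad1f06371ee5fe1ec2a86491ea2a46801e82a01e729d1e329c1e222429b1dda2b1d921c273a5b1d62201d42982961d22941d11d0)) (.lf (nat_lit 0x0))) (.nd (.lf (nat_lit 0x11611208011107f10e10c07d10807b1061050781010760ff0750fd0fb0f70720f60f50710f106f0ef0ed06e0eb0e806a0e60e40670e10660de0dc0d80650620d706105f0d307a0ce05e05c0cd0cb05a8680c70580c605746c0560c20c00540bd)) (.lf (nat_lit 0x23614a2341bc23214514222f1b714013e22d22c22813d13b2272261e01372221d713616221f1321da13121d1a221b12f16d21612b21412a58612921218d21020e12420c20a14620612211f19711c2032011ff11b11899a1561fd115934114538)) (.lf (nat_lit 0x2e7ae227d27b2e3277a91299aa226fac626a2e12682e0265a7168f2622c22dda752dc25c2a768e2db2592d96b72d62562d527825425224f2d32b82452d1244aca2422cc23f6b9239aaeaa62332c923122e2c82c766b2252c52c366d22323da58))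 (.lf (nat_lit 0x0))) (.nd (.lf (nat_lit 0xb01630ae5430ad16015e1590ac0aa0a91584ca1170a71540a51520a41500a28c914e0a114b09f14909e10012309c14414109a13f09913c13a10709809513513313009212e12d12c12709008d12608c8f34ea12108908712011e11a083119082)) (.lf (nat_lit 0x189a5e18417e26917d17a1792666081775ce17517426326117225f17025d16f25a16e25725563a16c16a2532511681ad16620f24e1641c51a524c1611aa24815d24615c2432412401579f415520923ea2a15323c23b14f1db20414d95f14c238)) (.lf (nat_lit 0x2ee2f12f22ec2d82f32d42f02cdae52e62c12bf2e96ea2e42bb6be2b32b1ace2d02ab2a92a52da2a32ef2d72a129f2ed29aacb2972de2cf6df2eb2936d269528c2892886b52852c42842ac2e827e)) (.lf (nat_lit 0x0))))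

end Cfsg.Agent.Helper6.SchG23
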